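import Cfsg.Agent.GpExc.Rank
import Cfsg.Agent.ChevalleyStructure.TwistedE6G
import Cfsg.Agent.FastGrp
import Cfsg.Agent.Prune
set_option linter.all false
prune_inst 0x7f00000000000000000000000000000000000000000000000000000000000000000000000000000000000000000000000000000000000000000000000000000000000000000000000000000000000000003fffffffffffffffffffffffffffbeffbdffffffff
open scoped Cfsg.Agent.FastGrp

/-!
# `²E6(q)` (helper33)

* `X_mem` : `x_r(t) ∈ ²E6(q)` for the 24 roots `r` fixed by the graph automorphism and `t ^ q = t`;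
* `twE6 : ∃ p, p.Prime ∧ p ≠ 2 ∧ Wit p 3 (twistedE6 K q)`, all `q`.
-/

set_option autoImplicit false

namespace Cfsg.Agent.ETable.Exc

open Cfsg Cfsg.Lie Subgroup
open Cfsg.Agent.ChevalleyStructure Cfsg.Agent.ChevalleyStructure.Elts
open Cfsg.Agent.ChevalleyStructure.TwistedE6U Cfsg.Agent.ChevalleyStructure.TwistedE6G
open Cfsg.Agent.ChevalleyStructure.TwistedE6Sigma

universe u

variable {K : Type u} [Field K] {q : ℕ}

/-- the signs in the conjugation by `n_J` are `± 1` -/
theorem nJ_conj_sign : ∀ {js : List ℕ}, (∀ i ∈ js, i < 6) → ∀ {s : ℕ}, s < 72 →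
    wJ js s < 72 ∧ ∃ η : K, (η = 1 ∨ η = -1) ∧ ∀ t : K, nJ K js * X s t * (nJ K js)⁻¹ = X (wJ js s) (η * t) := by
  intro js
  induction js with
  | nil =>
    intro _ s hs
    exact ⟨hs, 1, Or.inl rfl, fun t => by simp [nJ, wJ]⟩
  | cons i js ih =>
    intro hjs s hs
    obtain ⟨h1, η, h0, h2⟩ := ih (fun i hi => hjs i (List.mem_cons_of_mem _ hi)) hs
    have hi : i < 6 := hjs i List.mem_cons_self
    obtain ⟨η', h0', h3⟩ : ∃ η : K, (η = 1 ∨ η = -1) ∧ ∀ t : K,
        Elts.nG hE6 (chevE6.simple i) 1 * X (wJ js s) t * (Elts.nG hE6 (chevE6.simple i) 1)⁻¹ =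
          X (chevE6.reflectRoot i (wJ js s)) (η * t) := by
      obtain ⟨η, hη, h⟩ := Cfsg.Agent.S1031.result (F := K) chevE6 hE6 i (wJ js s) hi h1
      refine ⟨(η : K), ?_, fun t => ?_⟩
      · rcases hη with rfl | rfl
        · exact Or.inl (by norm_num)
        · exact Or.inr (by norm_num)
      · rw [mul_inv_eq_iff_eq_mul]
        exact Units.ext (h t)
    refine ⟨reflectRoot_lt i hi _ h1, η' * η, ?_, fun t => ?_⟩
    · rcases h0 with rfl | rfl <;> rcases h0' with rfl | rfl <;> simp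
    have e : nJ K (i :: js) = Elts.nG hE6 (chevE6.simple i) 1 * nJ K js := by
      simp [nJ]
    have e2 : wJ (i :: js) s = chevE6.reflectRoot i (wJ js s) := rfl
    rw [e, e2, mul_inv_rev]
    calc Elts.nG hE6 (chevE6.simple i) 1 * nJ K js * X s t *
          ((nJ K js)⁻¹ * (Elts.nG hE6 (chevE6.simple i) 1)⁻¹)
        = Elts.nG hE6 (chevE6.simple i) 1 * (nJ K js * X s t * (nJ K js)⁻¹) *
          (Elts.nG hE6 (chevE6.simple i) 1)⁻¹ := by group
      _ = _ := by rw [h2, h3, mul_assoc]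

/-- the fixed roots, each the image of an earlier one under an `n_J` -/
def fixCert : List ((List ℕ × ℕ) × ℕ) :=
  [(([3], 46), 47), (([3], 25), 24), (([2, 4], 39), 44), (([2, 4], 32), 27), (([2, 4], 47), 51), (([2, 4], 24), 20),
   (([0, 5], 44), 60), (([0, 5], 27), 11), (([3], 51), 53), (([0, 5], 51), 63), (([3], 20), 18), (([0, 5], 20), 8),
   (([0, 5], 53), 65), (([0, 5], 18), 6), (([2, 4], 65), 69), (([2, 4], 6), 2), (([3], 69), 70), (([3], 2), 1),
   (([1], 70), 71), (([1], 1), 0)]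

/-- the list of fixed roots reached -/
def fixList : List ((List ℕ × ℕ) × ℕ) → List ℕ → List ℕ
  | [], l => l
  | c :: cs, l => fixList cs (c.2 :: l)

/-- the certificate is correct -/
def fixOk : List ((List ℕ × ℕ) × ℕ) → List ℕ → Bool
  | [], _ => true
  | c :: cs, l => (decide (c.1.1 ∈ Js) && decide (c.1.2 ∈ l) && decide (c.1.2 < 72) && decide (wJ c.1.1 c.1.2 = c.2)) &&
      fixOk cs (c.2 :: l)

theorem fixOk_check : fixOk fixCert [46, 25, 39, 32] = true := by decide +kernel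

theorem fixList_check : ∀ r < 72, rho r = r → r ∈ fixList fixCert [46, 25, 39, 32] := by decide +kernel

theorem X_mem_aux (hq : (-1 : K) ^ q = -1) : ∀ (cs : List ((List ℕ × ℕ) × ℕ)) (l : List ℕ),
    fixOk cs l = true → (∀ r ∈ l, ∀ t : K, t ^ q = t → X r t ∈ twistedE6 K q) →
    ∀ r ∈ fixList cs l, ∀ t : K, t ^ q = t → X r t ∈ twistedE6 K q := by
  intro cs
  induction cs with
  | nil => exact fun l _ h => h
  | cons c cs ih =>
    intro l hc hl
    unfold fixOk at hc
    rw [Bool.and_eq_true, Bool.and_eq_true, Bool.and_eq_true, Bool.and_eq_true, decide_eq_true_eq, decide_eq_true_eq,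
      decide_eq_true_eq, decide_eq_true_eq] at hc
    obtain ⟨⟨⟨⟨h1, h2⟩, h3⟩, h4⟩, h5⟩ := hc
    refine ih (c.2 :: l) h5 ?_
    intro r hr t ht
    rcases List.mem_cons.1 hr with rfl | hr
    · obtain ⟨-, η, h0, h6⟩ := nJ_conj_sign (K := K) (Js_lt _ h1) h3
      have hηη : η * η = 1 := by rcases h0 with rfl | rfl <;> simp
      have hηq : η ^ q = η := by
        rcases h0 with rfl | rfl
        · exact one_pow q
        · exact hq
      have h7 : X c.2 t = nJ K c.1.1 * X c.1.2 (η * t) * (nJ K c.1.1)⁻¹ := by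
        rw [h6, h4, ← mul_assoc, hηη, one_mul]
      rw [h7]
      have h8 := nJ_mem hq c.1.1 h1
      exact mul_mem (mul_mem h8 (hl _ h2 _ (by rw [mul_pow, hηq, ht]))) (inv_mem h8)
    · exact hl r hr t ht

/-- **the long root elements of `²E6(q)`** -/
theorem X_mem (hq : (-1 : K) ^ q = -1) {r : ℕ} (hr : r < 72) (hr' : rho r = r) {t : K} (ht : t ^ q = t) :
    X r t ∈ twistedE6 K q :=
  X_mem_aux hq fixCert _ fixOk_check (fun r hr t ht => mem_long hr ht) r (fixList_check r hr hr') t ht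

theorem orth_twE6 : Orth chevE6 ![39, 44, 60, 71] := ⟨by decide +kernel, by decide +kernel⟩

theorem fix_twE6 : ∀ i : Fin 4, (![39, 44, 60, 71] i) < 72 ∧ rho (![39, 44, 60, 71] i) = ![39, 44, 60, 71] i ∧
    chevE6.neg (![39, 44, 60, 71] i) < 72 ∧
    rho (chevE6.neg (![39, 44, 60, 71] i)) = chevE6.neg (![39, 44, 60, 71] i) := by decide +kernel

theorem neg_one_pow_q [Finite K] (hq : IsPrimePow q) (m : ℕ) (hm : m ≠ 0) (hK : Nat.card K = q ^ m) :
    (-1 : K) ^ q = -1 := by
  have := Fintype.ofFinite K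
  rw [Nat.card_eq_fintype_card] at hK
  obtain ⟨φ, hφ⟩ := exists_frob hq hm hK
  rw [← hφ, map_neg, map_one]

/-- **²E6(q), all `q`.** -/
theorem twE6 (K : Type u) [Field K] [Finite K] (q : ℕ) (hq : IsPrimePow q) (hK : Nat.card K = q ^ 2) :
    ∃ p, p.Prime ∧ p ≠ 2 ∧ Wit p 3 (twistedE6 K q) := by
  have h1 := neg_one_pow_q hq 2 two_ne_zero hK
  exact wit_of_orth inList_E6 orth_twE6 (fun i => X_mem h1 (fix_twE6 i).1 (fix_twE6 i).2.1 (one_pow q))
    fun i => X_mem h1 (fix_twE6 i).2.2.1 (fix_twE6 i).2.2.2 (one_pow q)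

end Cfsg.Agent.ETable.Exc

private theorem dce_f0ba721a526b : _root_.True := by
  try have : _root_.True := by simp only [_root_.Cfsg.Agent.ETable.Exc.fixOk.eq_def]
  exact _root_.True.intro
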